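import Groth.Prelude.Def_FrobAlg
import Mathlib.RingTheory.Etale.Basic
import Mathlib.RingTheory.IntegralClosure.IsIntegralClosure.Basic

/-! # Relative Frobenius and infinitesimal lifting -/

namespace Groth.Agent.PerfLib

open FrobAlg TensorProduct

universe u

variable {p : ℕ} [hp : Fact p.Prime] {A : Type u} [CommRing A] [CharP A p]
  {B : Type u} [CommRing B] [Algebra A B] [CharP B p]

theorem relFrob_tmul (b : B) (a : Twist p A) :
    relFrob p A B (b ⊗ₜ[A] a) = b ^ p * algebraMap A B ((toTwist p A).symm a) := by
  change (toTarget p A B).symm ((Algebra.TensorProduct.lift (frobHom p A B) (inclHom p A B)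
    (fun _ _ => Commute.all _ _)) (b ⊗ₜ[A] a)) = _
  rw [Algebra.TensorProduct.lift_tmul]
  rfl

omit [CharP B p] hp in
theorem cast_eq_zero {C : Type*} [CommRing C] [Algebra A C] : (p : C) = 0 := by
  rw [← map_natCast (algebraMap A C), CharP.cast_eq_zero, map_zero]

theorem frob_add {C : Type*} [CommRing C] (h : (p : C) = 0) (x y : C) :
    (x + y) ^ p = x ^ p + y ^ p := by
  rcases subsingleton_or_nontrivial C with hC | hC
  · exact Subsingleton.elim _ _
  · haveI : CharP C p := (CharP.charP_iff_prime_eq_zero hp.out).2 h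
    exact add_pow_char x y p

theorem pow_eq_of_sub_mem {C : Type*} [CommRing C] (h : (p : C) = 0) {I : Ideal C} (hI : I ^ 2 = ⊥)
    {x y : C} (hxy : x - y ∈ I) : x ^ p = y ^ p := by
  have : (x - y) ^ p ∈ I ^ 2 :=
    Ideal.pow_le_pow_right hp.out.two_le (Ideal.pow_mem_pow hxy p)
  rw [hI] at this
  rw [← sub_add_cancel x y, frob_add h, this, zero_add]

theorem algHom_ext_of_lift {C : Type*} [CommRing C] [Algebra A C] {I : Ideal C} (hI : I ^ 2 = ⊥)
    {g₁ g₂ : B →ₐ[A] C} (h : ∀ b, g₁ b - g₂ b ∈ I) (z : BaseChange p A B) :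
    g₁ (relFrob p A B z) = g₂ (relFrob p A B z) := by
  induction z using TensorProduct.induction_on with
  | zero => simp
  | tmul b a =>
    rw [relFrob_tmul, map_mul, map_mul, map_pow, map_pow, AlgHom.commutes, AlgHom.commutes,
      pow_eq_of_sub_mem (cast_eq_zero (A := A)) hI (h b)]
  | add x y hx hy => rw [map_add, map_add, map_add, hx, hy]

theorem formallyUnramified_iff :
    Algebra.FormallyUnramified A B ↔
      @Algebra.FormallyUnramified (BaseChange p A B) B _ _ (relFrob p A B).toAlgebra := by
  letI : Algebra (BaseChange p A B) B := (relFrob p A B).toAlgebra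
  have hright : ∀ a : A, relFrob p A B (1 ⊗ₜ[A] toTwist p A a) = algebraMap A B a := fun a => by
    rw [relFrob_tmul, one_pow, one_mul, RingEquiv.symm_apply_apply]
  let r : A →+* BaseChange p A B :=
    (Algebra.TensorProduct.includeRight : Twist p A →ₐ[A] BaseChange p A B).toRingHom.comp
      (toTwist p A : A →+* Twist p A)
  constructor
  · intro h
    rw [Algebra.FormallyUnramified.iff_comp_injective]
    intro C _ _ I hI g₁ g₂ hg
    letI : Algebra A C := ((algebraMap (BaseChange p A B) C).comp r).toAlgebra
    let res : (B →ₐ[BaseChange p A B] C) → (B →ₐ[A] C) := fun g =>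
      { g.toRingHom with
        commutes' := fun a => by
          change g (algebraMap A B a) = algebraMap (BaseChange p A B) C (r a)
          rw [← g.commutes]
          exact congrArg g (hright a).symm }
    have e : res g₁ = res g₂ := Algebra.FormallyUnramified.comp_injective I hI
      (AlgHom.ext fun b => AlgHom.congr_fun hg b)
    exact AlgHom.ext fun b => AlgHom.congr_fun e b
  · intro h
    rw [Algebra.FormallyUnramified.iff_comp_injective]
    intro C _ _ I hI g₁ g₂ hg
    letI : Algebra (BaseChange p A B) C := (g₁.toRingHom.comp (relFrob p A B)).toAlgebra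
    have hmem : ∀ b, g₁ b - g₂ b ∈ I := fun b => Ideal.Quotient.eq.1 (AlgHom.congr_fun hg b)
    let k₁ : B →ₐ[BaseChange p A B] C := { g₁.toRingHom with commutes' := fun z => rfl }
    let k₂ : B →ₐ[BaseChange p A B] C :=
      { g₂.toRingHom with commutes' := fun z => (algHom_ext_of_lift hI hmem z).symm }
    have e : k₁ = k₂ := Algebra.FormallyUnramified.comp_injective I hI
      (AlgHom.ext fun b => AlgHom.congr_fun hg b)
    exact AlgHom.ext fun b => AlgHom.congr_fun e b

theorem formallyEtale_of_bijective (h : Function.Bijective (relFrob p A B)) :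
    Algebra.FormallyEtale A B := by
  rw [Algebra.FormallyEtale.iff_comp_bijective]
  intro C _ _ I hI
  refine ⟨fun g₁ g₂ hg => AlgHom.ext fun b => ?_, fun f => ?_⟩
  · obtain ⟨z, rfl⟩ := h.2 b
    exact algHom_ext_of_lift hI (fun b => Ideal.Quotient.eq.1 (AlgHom.congr_fun hg b)) z
  choose s hs using fun b => Ideal.Quotient.mk_surjective (f b)
  have hp0 : (p : C) = 0 := cast_eq_zero (A := A)
  rcases subsingleton_or_nontrivial C with hC | hC
  · haveI : Subsingleton (C ⧸ I) := Function.Surjective.subsingleton Ideal.Quotient.mk_surjective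
    exact ⟨{ toFun := fun _ => 0, map_one' := Subsingleton.elim _ _, map_mul' := fun _ _ => Subsingleton.elim _ _,
             map_zero' := rfl, map_add' := fun _ _ => Subsingleton.elim _ _, commutes' := fun _ => Subsingleton.elim _ _ },
      AlgHom.ext fun _ => Subsingleton.elim _ _⟩
  haveI : CharP C p := (CharP.charP_iff_prime_eq_zero hp.out).2 hp0
  have hsub : ∀ x y : C, Ideal.Quotient.mk I x = Ideal.Quotient.mk I y → x ^ p = y ^ p := fun x y e =>
    pow_eq_of_sub_mem hp0 hI (Ideal.Quotient.eq.1 e)
  let q : B →ₐ[A] Target p A C :=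
    { toFun := fun b => toTarget p A C (s b ^ p)
      map_one' := by
        rw [hsub (s 1) 1 (by rw [hs, map_one, map_one]), one_pow, map_one]
      map_mul' := fun x y => by
        rw [← map_mul, ← mul_pow, hsub (s (x * y)) (s x * s y) (by rw [hs, map_mul, map_mul, hs, hs])]
      map_zero' := by
        rw [hsub (s 0) 0 (by rw [hs, map_zero, map_zero]), zero_pow hp.out.ne_zero, map_zero]
      map_add' := fun x y => by
        rw [← map_add, ← frob_add hp0, hsub (s (x + y)) (s x + s y) (by rw [hs, map_add, map_add, hs, hs])]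
      commutes' := fun a => by
        rw [algebraMap_target, hsub (s (algebraMap A B a)) (algebraMap A C a) (by
          rw [hs, AlgHom.commutes]; rfl)] }
  let G : BaseChange p A B →+* C :=
    ((toTarget p A C).symm : Target p A C →+* C).comp
      (Algebra.TensorProduct.lift q (inclHom p A C) (fun _ _ => Commute.all _ _)).toRingHom
  have hG : ∀ b a, G (b ⊗ₜ[A] a) = s b ^ p * algebraMap A C ((toTwist p A).symm a) := fun b a => by
    change (toTarget p A C).symm ((Algebra.TensorProduct.lift q (inclHom p A C)
      (fun _ _ => Commute.all _ _)) (b ⊗ₜ[A] a)) = _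
    rw [Algebra.TensorProduct.lift_tmul]
    rfl
  let e := RingEquiv.ofBijective (relFrob p A B) h
  refine ⟨{ G.comp e.symm.toRingHom with commutes' := fun a => ?_ }, AlgHom.ext fun b => ?_⟩
  · have : e.symm (algebraMap A B a) = (1 : B) ⊗ₜ[A] toTwist p A a := e.injective (by
      rw [RingEquiv.apply_symm_apply]
      exact ((relFrob_tmul _ _).trans (by rw [one_pow, one_mul, RingEquiv.symm_apply_apply])).symm)
    change G (e.symm (algebraMap A B a)) = _
    rw [this, hG, hsub (s 1) 1 (by rw [hs, map_one, map_one]), one_pow, one_mul, RingEquiv.symm_apply_apply]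
  · obtain ⟨z, rfl⟩ := h.2 b
    change Ideal.Quotient.mk I (G (e.symm (e z))) = _
    rw [RingEquiv.symm_apply_apply]
    induction z using TensorProduct.induction_on with
    | zero => simp
    | tmul b a =>
      rw [hG, relFrob_tmul, map_mul, map_mul, map_pow, map_pow, hs, AlgHom.commutes]
      rfl
    | add x y hx hy => rw [map_add, map_add, hx, hy, map_add, map_add]

theorem relFrob_isIntegral : (relFrob p A B).IsIntegral := fun x => by
  letI : Algebra (BaseChange p A B) B := (relFrob p A B).toAlgebra
  refine IsIntegral.of_pow hp.out.pos ?_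
  have : relFrob p A B (x ⊗ₜ[A] 1) = x ^ p := by rw [relFrob_tmul, map_one, map_one, mul_one]
  rw [← this]
  exact isIntegral_algebraMap

theorem pow_eq_relFrob_tmul (z : BaseChange p A B) : z ^ p = relFrob p A B z ⊗ₜ[A] 1 := by
  induction z using TensorProduct.induction_on with
  | zero => rw [zero_pow hp.out.ne_zero, map_zero, TensorProduct.zero_tmul]
  | tmul b a =>
    rw [relFrob_tmul, Algebra.TensorProduct.tmul_pow, mul_comm, ← Algebra.smul_def,
      TensorProduct.smul_tmul, Algebra.smul_def, mul_one, algebraMap_twist, map_pow,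
      RingEquiv.apply_symm_apply]
  | add x y hx hy =>
    rw [frob_add (cast_eq_zero (A := A)), hx, hy, map_add, TensorProduct.add_tmul]

theorem relFrob_eq_zero_pow {z : BaseChange p A B} (h : relFrob p A B z = 0) : z ^ p = 0 := by
  rw [pow_eq_relFrob_tmul, h, TensorProduct.zero_tmul]

end Groth.Agent.PerfLib
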