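import Mathlib.FieldTheory.IsPerfectClosure
import Mathlib.RingTheory.Flat.EquationalCriterion
import Mathlib.RingTheory.RingHom.FaithfullyFlat
import Mathlib.RingTheory.Spectrum.Prime.Homeomorph

/-! # Flatness, integrality and Spec of the perfection of a ring map -/

namespace Groth.Agent.PerfLib

variable (p : ℕ) [Fact p.Prime] {A B A' B' : Type*} [CommRing A] [CommRing B] [CommRing A']
  [CommRing B']

theorem comap_bijective_of_pRadical (i : A →+* A') [IsPRadical i p] :
    Function.Bijective (PrimeSpectrum.comap i) := by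
  refine (PrimeSpectrum.isHomeomorph_comap i (fun x => ?_)
    ((IsPRadical.ker_le i p).trans pNilradical_le_nilradical)).bijective
  obtain ⟨n, y, hy⟩ := IsPRadical.pow_mem i p x
  exact ⟨p ^ n, pow_pos (Fact.out : p.Prime).pos n, y, hy⟩

variable [CharP A p] [CharP B p] [CharP A' p] [CharP B' p] [PerfectRing A' p] [PerfectRing B' p]
  {φ : A →+* B} {i : A →+* A'} {j : B →+* B'} [IsPerfectClosure i p] [IsPerfectClosure j p]
  {φ' : A' →+* B'}

omit [CharP A p] [CharP B p] [CharP B' p] [PerfectRing B' p] in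
theorem exists_pow_eq {ι : Type*} [Finite ι] {C : Type*} [CommRing C] {k : C →+* A'} [IsPRadical k p]
    (x : ι → A') : ∃ (n : ℕ) (y : ι → C), ∀ l, k (y l) = x l ^ p ^ n := by
  cases nonempty_fintype ι
  choose n y hy using fun l => IsPRadical.pow_mem k p (x l)
  refine ⟨Finset.univ.sup n, fun l => y l ^ p ^ (Finset.univ.sup n - n l), fun l => ?_⟩
  rw [map_pow, hy, ← pow_mul, ← pow_add, Nat.add_sub_cancel' (Finset.le_sup (Finset.mem_univ l))]

include p in
theorem flat_perfection (hflat : φ.Flat) (hφ : φ'.comp i = j.comp φ) : φ'.Flat := by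
  algebraize [φ, φ']
  have hcomm : ∀ a, φ' (i a) = j (φ a) := RingHom.congr_fun hφ
  change Module.Flat A' B'
  rw [Module.Flat.iff_forall_isTrivialRelation]
  intro l f x h
  obtain ⟨n₁, a₁, ha₁⟩ := exists_pow_eq p (k := i) f
  obtain ⟨n₂, b₂, hb₂⟩ := exists_pow_eq p (k := j) x
  set n := n₁ + n₂ with hn
  let a : Fin l → A := fun s => a₁ s ^ p ^ n₂
  let b : Fin l → B := fun s => b₂ s ^ p ^ n₁
  have ha : ∀ s, i (a s) = f s ^ p ^ n := fun s => by rw [map_pow, ha₁, ← pow_mul, ← pow_add]
  have hb : ∀ s, j (b s) = x s ^ p ^ n := fun s => by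
    rw [map_pow, hb₂, ← pow_mul, ← pow_add, add_comm]
  have hj : j (∑ s, φ (a s) * b s) = 0 := by
    simp only [map_sum, map_mul, ← hcomm, ha, hb, map_pow, ← mul_pow]
    rw [← sum_pow_char_pow, show (∑ s, φ' (f s) * x s) = 0 from h,
      zero_pow (pow_ne_zero _ (Fact.out : p.Prime).ne_zero)]
  obtain ⟨m, hm⟩ := mem_pNilradical.1 (IsPRadical.ker_le j p (RingHom.mem_ker.2 hj))
  rw [sum_pow_char_pow] at hm
  obtain ⟨k, α, y, hy, hα⟩ := Module.Flat.isTrivialRelation_of_sum_smul_eq_zero (R := A) (M := B)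
    (f := fun s => a s ^ p ^ m) (x := fun s => b s ^ p ^ m) (by
      rw [← hm]
      refine Finset.sum_congr rfl fun s _ => ?_
      rw [Algebra.smul_def, RingHom.algebraMap_toAlgebra, map_pow, mul_pow])
  set N := n + m with hN
  let rA := (iterateFrobeniusEquiv A' p N).symm
  let rB := (iterateFrobeniusEquiv B' p N).symm
  have hrA : ∀ z, rA (z ^ p ^ N) = z := fun z => (iterateFrobeniusEquiv A' p N).symm_apply_apply z
  have hrB : ∀ z, rB (z ^ p ^ N) = z := fun z => (iterateFrobeniusEquiv B' p N).symm_apply_apply z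
  have hroot : ∀ z, φ' (rA z) = rB (φ' z) := fun z => by
    apply (iterateFrobeniusEquiv B' p N).injective
    rw [RingEquiv.apply_symm_apply, iterateFrobeniusEquiv_apply, iterateFrobenius_def, ← map_pow]
    congr 1
    exact (iterateFrobeniusEquiv A' p N).apply_symm_apply z
  refine ⟨k, fun s t => rA (i (α s t)), fun t => rB (j (y t)), fun s => ?_, fun t => ?_⟩
  · rw [← hrB (x s), hN, pow_add, pow_mul, ← hb, ← map_pow, show b s ^ p ^ m = _ from hy s, map_sum, map_sum]
    refine Finset.sum_congr rfl fun t _ => ?_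
    rw [Algebra.smul_def, Algebra.smul_def, map_mul, map_mul, RingHom.algebraMap_toAlgebra,
      RingHom.algebraMap_toAlgebra, hroot, hcomm]
  · have := congrArg (fun z => rA (i z)) (hα t)
    simp only [map_sum, map_mul, map_zero, map_pow i, ha, ← pow_mul, ← pow_add] at this
    rw [← this]
    refine Finset.sum_congr rfl fun s _ => ?_
    rw [← hN, hrA]

include p in
theorem faithfullyFlat_perfection (hflat : φ.FaithfullyFlat) (hφ : φ'.comp i = j.comp φ) :
    φ'.FaithfullyFlat := by
  rw [RingHom.FaithfullyFlat.iff_flat_and_comap_surjective] at hflat ⊢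
  refine ⟨flat_perfection p hflat.1 hφ, fun q => ?_⟩
  obtain ⟨P, hP⟩ := hflat.2 (PrimeSpectrum.comap i q)
  obtain ⟨P', rfl⟩ := (comap_bijective_of_pRadical p j).2 P
  refine ⟨P', (comap_bijective_of_pRadical p i).1 ?_⟩
  rw [← PrimeSpectrum.comap_comp_apply, hφ, PrimeSpectrum.comap_comp_apply, hP]

omit [PerfectRing A' p] [PerfectRing B' p] [CharP B p] [CharP A p] [CharP A' p] [CharP B' p]
  [IsPerfectClosure i p] [IsPerfectClosure j p] in
include p in
theorem isIntegral_of_pRadical {i : A →+* A'} [IsPRadical i p] : i.IsIntegral := fun x => by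
  algebraize [i]
  obtain ⟨n, y, hy⟩ := IsPRadical.pow_mem i p x
  have h : IsIntegral A (x ^ p ^ n) := hy ▸ isIntegral_algebraMap
  exact h.of_pow (pow_pos (Fact.out : p.Prime).pos n)

include p in
theorem isIntegral_perfection (hφ : φ'.comp i = j.comp φ) : φ.IsIntegral ↔ φ'.IsIntegral := by
  constructor
  · intro h
    have h2 : (φ'.comp i).IsIntegral := hφ ▸ RingHom.IsIntegral.trans φ j h (isIntegral_of_pRadical p)
    exact RingHom.IsIntegral.tower_top i φ' h2
  · intro h b
    have h2 : (j.comp φ).IsIntegral := hφ ▸ RingHom.IsIntegral.trans i φ' (isIntegral_of_pRadical p) h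
    obtain ⟨P, hP, hPb⟩ := h2 (j b)
    rw [← Polynomial.hom_eval₂] at hPb
    obtain ⟨n, hn⟩ := mem_pNilradical.1 (IsPRadical.ker_le j p (RingHom.mem_ker.2 hPb))
    refine ⟨P ^ p ^ n, hP.pow _, ?_⟩
    rw [Polynomial.eval₂_pow, hn]

end Groth.Agent.PerfLib
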