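import Mathlib.RingTheory.Finiteness.Basic
import Mathlib.RingTheory.RingHom.Finite
import Mathlib.RingTheory.Localization.Basic
import Mathlib.Algebra.CharP.Frobenius

/-! # Finiteness of Frobenius -/

namespace Groth.Agent.PerfLib

variable {R B : Type*} [CommRing R] [CommRing B]

theorem finite_iff_exists_sum (f : R →+* B) :
    f.Finite ↔ ∃ s : Finset B, ∀ b, ∃ c : B → R, b = ∑ x ∈ s, f (c x) * x := by
  letI := f.toAlgebra
  constructor
  · intro h
    obtain ⟨s, hs⟩ := (show Module.Finite R B from h).fg_top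
    refine ⟨s, fun b => ?_⟩
    obtain ⟨c, -, hc⟩ := Submodule.mem_span_finset.1 (hs.symm ▸ Submodule.mem_top (R := R) (x := b))
    exact ⟨c, hc.symm.trans (Finset.sum_congr rfl fun x _ => Algebra.smul_def _ _)⟩
  · rintro ⟨s, h⟩
    refine ⟨⟨s, top_le_iff.1 fun b _ => ?_⟩⟩
    obtain ⟨c, rfl⟩ := h b
    exact Submodule.sum_mem _ fun x hx => by
      rw [show f (c x) * x = c x • x from (Algebra.smul_def _ _).symm]
      exact Submodule.smul_mem _ _ (Submodule.subset_span hx)

variable {p : ℕ} [Fact p.Prime]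

theorem frobFinite_of_surjective {A C : Type*} [CommRing A] [CommRing C] [CharP A p] [CharP C p]
    (g : A →+* C) (hg : Function.Surjective g) (hF : (frobenius A p).Finite) :
    (frobenius C p).Finite := by
  classical
  obtain ⟨s, hs⟩ := (finite_iff_exists_sum _).1 hF
  choose l hl using hg
  refine (finite_iff_exists_sum _).2 ⟨s.image g, fun b => ?_⟩
  obtain ⟨c, hc⟩ := hs (l b)
  refine ⟨fun y => ∑ x ∈ s with g x = y, g (c x), ?_⟩
  rw [← hl b, hc, map_sum, ← Finset.sum_fiberwise_of_maps_to (g := g) (fun x hx => Finset.mem_image_of_mem g hx)]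
  refine Finset.sum_congr rfl fun y _ => ?_
  rw [map_sum, Finset.sum_mul]
  refine Finset.sum_congr rfl fun x hx => ?_
  rw [map_mul, (Finset.mem_filter.1 hx).2, frobenius_def, frobenius_def, map_pow]

theorem frobFinite_of_isLocalization {A C : Type*} [CommRing A] [CommRing C] [CharP A p] [CharP C p]
    [Algebra A C] (S : Submonoid A) [IsLocalization S C] (hF : (frobenius A p).Finite) :
    (frobenius C p).Finite := by
  classical
  obtain ⟨s, hs⟩ := (finite_iff_exists_sum _).1 hF
  refine (finite_iff_exists_sum _).2 ⟨s.image (algebraMap A C), fun q => ?_⟩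
  obtain ⟨a, t, rfl⟩ := IsLocalization.exists_mk'_eq S q
  obtain ⟨c, hc⟩ := hs (a * (t : A) ^ (p - 1))
  refine ⟨fun y => ∑ x ∈ s with algebraMap A C x = y, IsLocalization.mk' C (c x) t, ?_⟩
  have hpow : p - 1 + 1 = p := Nat.sub_add_cancel (Fact.out : p.Prime).one_le
  have e : IsLocalization.mk' C a t =
      ∑ x ∈ s, IsLocalization.mk' C (c x) t ^ p * algebraMap A C x := by
    apply ((IsLocalization.map_units C t).pow p).mul_left_injective
    change IsLocalization.mk' C a t * algebraMap A C t ^ p = (∑ x ∈ s, _) * algebraMap A C t ^ p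
    rw [Finset.sum_mul]
    simp only [mul_right_comm _ _ (algebraMap A C t ^ p), ← mul_pow, IsLocalization.mk'_spec]
    rw [show algebraMap A C t ^ p = algebraMap A C t * algebraMap A C ((t : A) ^ (p - 1)) by
        rw [map_pow, ← pow_succ', hpow], ← mul_assoc, IsLocalization.mk'_spec, ← map_mul, hc, map_sum]
    simp only [map_mul, frobenius_def, map_pow]
  rw [e, ← Finset.sum_fiberwise_of_maps_to (g := algebraMap A C) (fun x hx => Finset.mem_image_of_mem _ hx)]
  refine Finset.sum_congr rfl fun y _ => ?_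
  rw [map_sum, Finset.sum_mul]
  exact Finset.sum_congr rfl fun x hx => by rw [(Finset.mem_filter.1 hx).2, frobenius_def]

end Groth.Agent.PerfLib

namespace Groth.Agent.PerfLib

theorem finite_of_exists_sum {R B : Type*} [CommRing R] [CommRing B] (f : R →+* B) {ι : Type*}
    [Fintype ι] (x : ι → B) (h : ∀ b, ∃ c : ι → R, b = ∑ i, f (c i) * x i) : f.Finite := by
  classical
  refine (finite_iff_exists_sum f).2 ⟨Finset.univ.image x, fun b => ?_⟩
  obtain ⟨c, rfl⟩ := h b
  refine ⟨fun y => ∑ i ∈ Finset.univ.filter (fun i => x i = y), c i, ?_⟩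
  rw [← Finset.sum_fiberwise_of_maps_to (g := x) (fun i hi => Finset.mem_image_of_mem x hi)]
  refine Finset.sum_congr rfl fun y _ => ?_
  rw [map_sum, Finset.sum_mul]
  exact Finset.sum_congr rfl fun i hi => by rw [(Finset.mem_filter.1 hi).2]

end Groth.Agent.PerfLib
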